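import Mathlib
import Groth.Agent.LieSBasic.MulEpi

/-!
# Morphisms out of an infinitesimal thickening descend to the equaliser subring

If `φ : R → R'` is injective, every element of `R'` is congruent to one of `R` modulo nilpotents and `R`
is the equaliser of finitely many pairs `ψ₁ i, ψ₂ i`, then a morphism `Spec R' ⟶ X` equalised by all
`Spec (ψ₁ i), Spec (ψ₂ i)` factors through `Spec φ`.
-/

universe u

open CategoryTheory CategoryTheory.Limits AlgebraicGeometry

set_option backward.isDefEq.respectTransparency false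

namespace Misc3Lie

section ring

variable {R R' : Type u} [CommRing R] [CommRing R'] (φ : R →+* R') (hinj : Function.Injective φ)
  (hlift : ∀ x, ∃ r, IsNilpotent (x - φ r))

include hinj hlift in
theorem isUnit_of_isUnit_map {s : R} (hs : IsUnit (φ s)) : IsUnit s := by
  obtain ⟨y, hy⟩ := hs.exists_right_inv
  obtain ⟨r, hr⟩ := hlift y
  have h1 : IsNilpotent (φ (1 - s * r)) := by
    rw [map_sub, map_one, map_mul, ← hy, ← mul_sub]
    exact (Commute.all _ _).isNilpotent_mul_left hr
  obtain ⟨n, hn⟩ := h1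
  have h2 : IsNilpotent (1 - s * r) := ⟨n, hinj (by rw [map_pow, hn, map_zero])⟩
  have h3 := h2.isUnit_one_sub
  rw [sub_sub_cancel] at h3
  exact isUnit_of_mul_isUnit_left h3

include hinj hlift in
theorem surjective_comap_of_lift : Function.Surjective (PrimeSpectrum.comap φ) := by
  have hint : φ.IsIntegral := fun x => by
    obtain ⟨r, n, hn⟩ := hlift x
    refine ⟨(Polynomial.X - Polynomial.C r) ^ n, (Polynomial.monic_X_sub_C r).pow n, ?_⟩
    simpa [Polynomial.eval₂_pow] using hn
  intro p
  algebraize [φ]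
  obtain ⟨Q, -, hQ, hQp⟩ := Ideal.exists_ideal_over_prime_of_isIntegral (S := R') p.asIdeal ⊥
    (fun x hx => by
      have : x = 0 := hinj (by rw [map_zero]; exact hx)
      simp [this])
  exact ⟨⟨Q, hQ⟩, PrimeSpectrum.ext hQp⟩

include hinj hlift in
theorem surjective_comap_awayMap (a : R) :
    Function.Surjective (PrimeSpectrum.comap (Localization.awayMap φ a)) := by
  intro p
  let p₀ := PrimeSpectrum.comap (algebraMap R (Localization.Away a)) p
  obtain ⟨q₀, hq₀⟩ := surjective_comap_of_lift φ hinj hlift p₀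
  have ha : p₀ ∈ PrimeSpectrum.basicOpen a := by
    rw [← SetLike.mem_coe, ← PrimeSpectrum.localization_away_comap_range (Localization.Away a) a]
    exact ⟨p, rfl⟩
  have hq : q₀ ∈ PrimeSpectrum.basicOpen (φ a) := fun h => ha (by rw [← hq₀]; exact h)
  obtain ⟨q, rfl⟩ : q₀ ∈ Set.range (PrimeSpectrum.comap (algebraMap R' (Localization.Away (φ a)))) := by
    rw [PrimeSpectrum.localization_away_comap_range (Localization.Away (φ a)) (φ a)]; exact hq
  refine ⟨q, PrimeSpectrum.localization_comap_injective (Localization.Away a) (Submonoid.powers a) ?_⟩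
  show _ = p₀
  rw [← hq₀, ← PrimeSpectrum.comap_comp_apply, ← PrimeSpectrum.comap_comp_apply, Groth.LieSBasic.away_sq]

variable {ι : Type*} [Finite ι] {S : ι → Type u} [∀ i, CommRing (S i)] (ψ₁ ψ₂ : ∀ i, R' →+* S i)
  (hex : ∀ x, (∀ i, ψ₁ i x = ψ₂ i x) → x ∈ Set.range φ)

include hex in
theorem away_mem_range (hφ : ∀ i, (ψ₁ i).comp φ = (ψ₂ i).comp φ) (a : R) (y : Localization.Away (φ a))
    (hy : ∀ i (κ : S i →+* Localization.Away (ψ₁ i (φ a))), κ = algebraMap _ _ → ∀ l₁ l₂ : Localization.Away (φ a) →+* Localization.Away (ψ₁ i (φ a)),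
      l₁.comp (algebraMap R' _) = κ.comp (ψ₁ i) → l₂.comp (algebraMap R' _) = κ.comp (ψ₂ i) → l₁ y = l₂ y) :
    y ∈ Set.range (Localization.awayMap φ a) := by
  classical
  haveI := Fintype.ofFinite ι
  obtain ⟨x, ⟨_, n, rfl⟩, rfl⟩ := IsLocalization.exists_mk'_eq (Submonoid.powers (φ a)) y
  have hm : ∀ i, ∃ m : ℕ, (ψ₁ i (φ a)) ^ m * ψ₁ i x = (ψ₁ i (φ a)) ^ m * ψ₂ i x := by
    intro i
    let c := ψ₁ i (φ a)
    let κ := algebraMap (S i) (Localization.Away c)
    have hu₁ : IsUnit ((κ.comp (ψ₁ i)) (φ a)) := IsLocalization.Away.algebraMap_isUnit c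
    have hu₂ : IsUnit ((κ.comp (ψ₂ i)) (φ a)) := by
      rw [RingHom.comp_apply, show ψ₂ i (φ a) = c from (RingHom.congr_fun (hφ i) a).symm]
      exact IsLocalization.Away.algebraMap_isUnit c
    have h := hy i κ rfl (IsLocalization.Away.lift (φ a) hu₁) (IsLocalization.Away.lift (φ a) hu₂)
      (IsLocalization.Away.lift_comp _ _) (IsLocalization.Away.lift_comp _ _)
    have h' := congrArg (· * κ (c ^ n)) h
    have e : ∀ (ψ : R' →+* S i) (hu : IsUnit ((κ.comp ψ) (φ a))), ψ (φ a) = c →
        IsLocalization.Away.lift (φ a) hu (IsLocalization.mk' (Localization.Away (φ a)) x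
          (⟨φ a ^ n, n, rfl⟩ : Submonoid.powers (φ a))) * κ (c ^ n) = κ (ψ x) := by
      intro ψ hu hc
      have := congrArg (IsLocalization.Away.lift (φ a) hu) (IsLocalization.mk'_spec (Localization.Away (φ a)) x
        (⟨φ a ^ n, n, rfl⟩ : Submonoid.powers (φ a)))
      rw [map_mul, IsLocalization.Away.lift_eq, IsLocalization.Away.lift_eq] at this
      simpa [RingHom.comp_apply, map_pow, hc] using this
    beta_reduce at h'
    rw [e _ hu₁ rfl, e _ hu₂ (RingHom.congr_fun (hφ i) a).symm] at h'
    obtain ⟨⟨_, m, rfl⟩, hm⟩ := (IsLocalization.eq_iff_exists (Submonoid.powers c) _).1 h'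
    exact ⟨m, hm⟩
  choose m hm using hm
  let M := Finset.univ.sup m
  obtain ⟨r, hr⟩ := hex (φ (a ^ M) * x) fun i => by
    obtain ⟨d, hd⟩ := Nat.le.dest (Finset.le_sup (f := m) (Finset.mem_univ i))
    have hc : ψ₂ i (φ a) = ψ₁ i (φ a) := (RingHom.congr_fun (hφ i) a).symm
    simp only [map_mul, map_pow, hc, show M = d + m i by rw [add_comm]; exact hd.symm, pow_add, mul_assoc, hm i]
  refine ⟨IsLocalization.mk' (Localization.Away a) r (⟨a ^ (M + n), M + n, rfl⟩ : Submonoid.powers a), ?_⟩
  rw [Localization.awayMap, IsLocalization.Away.map, IsLocalization.map_mk', IsLocalization.mk'_eq_iff_eq]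
  congr 1
  simp only [hr, map_mul, map_pow, pow_add]
  ring

end ring

variable {R R' : Type u} [CommRing R] [CommRing R']

/-- Descent of a morphism to the equaliser subring. -/
theorem exists_descend (φ : R →+* R') (hinj : Function.Injective φ)
    (hlift : ∀ x, ∃ r, IsNilpotent (x - φ r)) {ι : Type*} [Finite ι] {S : ι → Type u} [∀ i, CommRing (S i)]
    (ψ₁ ψ₂ : ∀ i, R' →+* S i) (hφ : ∀ i, (ψ₁ i).comp φ = (ψ₂ i).comp φ)
    (hex : ∀ x, (∀ i, ψ₁ i x = ψ₂ i x) → x ∈ Set.range φ) {X : Scheme.{u}}
    (Φ : Spec (CommRingCat.of R') ⟶ X)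
    (hΦ : ∀ i, Spec.map (CommRingCat.ofHom (ψ₁ i)) ≫ Φ = Spec.map (CommRingCat.ofHom (ψ₂ i)) ≫ Φ) :
    ∃ Ψ : Spec (CommRingCat.of R) ⟶ X, Spec.map (CommRingCat.ofHom φ) ≫ Ψ = Φ := by
  classical
  let J := {a : R // ∃ U : X.Opens, IsAffineOpen U ∧ PrimeSpectrum.basicOpen (φ a) ≤ Φ ⁻¹ᵁ U}
  have hspan : Ideal.span (Set.range (Subtype.val : J → R)) = ⊤ := by
    by_contra hne
    obtain ⟨m, hm, hle⟩ := Ideal.exists_le_maximal _ hne
    obtain ⟨q, hq⟩ := surjective_comap_of_lift φ hinj hlift ⟨m, hm.isPrime⟩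
    obtain ⟨_, ⟨U, hU, rfl⟩, hqU, -⟩ := X.isBasis_affineOpens.exists_subset_of_mem_open
      (Set.mem_univ (Φ q)) isOpen_univ
    have hop : IsOpen {t : PrimeSpectrum R' | Φ t ∈ U} := (Φ ⁻¹ᵁ U).2
    obtain ⟨_, ⟨x, rfl⟩, hqx, hxU⟩ := PrimeSpectrum.isTopologicalBasis_basic_opens.exists_subset_of_mem_open
      (show q ∈ {t : PrimeSpectrum R' | Φ t ∈ U} from hqU) hop
    obtain ⟨r, hr⟩ := hlift x
    have hbo : ∀ t : PrimeSpectrum R', t ∈ PrimeSpectrum.basicOpen (φ r) ↔ t ∈ PrimeSpectrum.basicOpen x := by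
      intro t
      have hmem : x - φ r ∈ t.asIdeal := by
        obtain ⟨n, hn⟩ := hr
        exact t.isPrime.mem_of_pow_mem n (hn.symm ▸ zero_mem _)
      exact not_congr ⟨fun h => by simpa using add_mem hmem h, fun h => by simpa using sub_mem h hmem⟩
    have hmr : r ∉ m := fun h => (hbo q).2 hqx (show r ∈ (PrimeSpectrum.comap φ q).asIdeal by rw [hq]; exact h)
    exact hmr (hle (Ideal.subset_span ⟨⟨r, U, hU, fun t ht => hxU ((hbo t).1 ht)⟩, rfl⟩))
  let 𝒰 := (Scheme.affineOpenCoverOfSpanRangeEqTop (R := CommRingCat.of R) (Subtype.val : J → R) hspan).openCover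
  have hg : ∀ j : J, ∃ g : Spec (CommRingCat.of (Localization.Away j.1)) ⟶ X,
      Spec.map (CommRingCat.ofHom (Localization.awayMap φ j.1)) ≫ g =
        Spec.map (CommRingCat.ofHom (algebraMap R' (Localization.Away (φ j.1)))) ≫ Φ := by
    rintro ⟨a, U, hU, haU⟩
    let A := Spec.map (CommRingCat.ofHom (algebraMap R' (Localization.Away (φ a))))
    have hr : Set.range (A ≫ Φ) ⊆ Set.range hU.fromSpec := by
      rw [hU.range_fromSpec]; rintro _ ⟨q, rfl⟩
      refine haU ?_
      show PrimeSpectrum.comap _ q ∈ (PrimeSpectrum.basicOpen (φ a) : Set (PrimeSpectrum R'))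
      rw [← PrimeSpectrum.localization_away_comap_range (Localization.Away (φ a)) (φ a)]
      exact ⟨q, rfl⟩
    let θ := Spec.preimage (IsOpenImmersion.lift hU.fromSpec (A ≫ Φ) hr)
    have hθ : Spec.map θ ≫ hU.fromSpec = A ≫ Φ := by rw [Spec.map_preimage, IsOpenImmersion.lift_fac]
    have hθr : ∀ s, θ.hom s ∈ Set.range (Localization.awayMap φ a) := by
      refine fun s => away_mem_range φ ψ₁ ψ₂ hex hφ a _ ?_
      intro i κ hκ l₁ l₂ h₁ h₂
      have : θ ≫ CommRingCat.ofHom l₁ = θ ≫ CommRingCat.ofHom l₂ := by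
        apply Spec.map_injective
        rw [← cancel_mono hU.fromSpec]
        simp only [Spec.map_comp, Category.assoc, hθ, A, ← Spec.map_comp_assoc, ← CommRingCat.ofHom_comp, h₁, h₂]
        simp only [CommRingCat.ofHom_comp, Spec.map_comp, Category.assoc, hΦ i]
      exact congrArg (fun k => k.hom s) this
    have hai : Function.Injective (Localization.awayMap φ a) := fun x y e =>
      Groth.LieSBasic.awayMap_jointly_injective φ φ (fun z hz _ => hinj (hz.trans (map_zero φ).symm)) a e e
    let e := RingEquiv.ofLeftInverse (Function.leftInverse_invFun hai)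
    let θ' : Γ(X, U) →+* Localization.Away a :=
      e.symm.toRingHom.comp (θ.hom.codRestrict (Localization.awayMap φ a).range hθr)
    have hθ' : (Localization.awayMap φ a).comp θ' = θ.hom := RingHom.ext fun s =>
      congrArg Subtype.val (e.apply_symm_apply ⟨θ.hom s, hθr s⟩)
    refine ⟨Spec.map (CommRingCat.ofHom θ') ≫ hU.fromSpec, ?_⟩
    rw [← Category.assoc, ← Spec.map_comp, ← CommRingCat.ofHom_comp, hθ', CommRingCat.ofHom_hom, hθ]
  choose g hg using hg
  have hcompat : ∀ a b : J, pullback.fst (𝒰.f a) (𝒰.f b) ≫ g a = pullback.snd (𝒰.f a) (𝒰.f b) ≫ g b := by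
    intro a b
    let c : R := a.1 * b.1
    let ic := Spec.map (CommRingCat.ofHom (algebraMap R (Localization.Away c)))
    have hua : IsUnit (algebraMap R (Localization.Away c) a.1) :=
      isUnit_of_dvd_unit (map_dvd _ (dvd_mul_right a.1 b.1)) (IsLocalization.Away.algebraMap_isUnit c)
    have hub : IsUnit (algebraMap R (Localization.Away c) b.1) :=
      isUnit_of_dvd_unit (map_dvd _ (dvd_mul_left b.1 a.1)) (IsLocalization.Away.algebraMap_isUnit c)
    let la : Localization.Away a.1 →+* Localization.Away c := IsLocalization.Away.lift a.1 hua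
    let lb : Localization.Away b.1 →+* Localization.Away c := IsLocalization.Away.lift b.1 hub
    have hw : Spec.map (CommRingCat.ofHom la) ≫ 𝒰.f a = Spec.map (CommRingCat.ofHom lb) ≫ 𝒰.f b := by
      show Spec.map _ ≫ Spec.map _ = Spec.map _ ≫ Spec.map _
      rw [← Spec.map_comp, ← Spec.map_comp]
      congr 1
      exact CommRingCat.hom_ext ((IsLocalization.Away.lift_comp a.1 hua).trans (IsLocalization.Away.lift_comp b.1 hub).symm)
    let l := pullback.lift (Spec.map (CommRingCat.ofHom la)) (Spec.map (CommRingCat.ofHom lb)) hw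
    haveI : IsIso l := by
      have hl : l ≫ (pullback.fst (𝒰.f a) (𝒰.f b) ≫ 𝒰.f a) = ic := by
        rw [pullback.lift_fst_assoc]
        show Spec.map _ ≫ Spec.map _ = Spec.map _
        rw [← Spec.map_comp]
        congr 1
        exact CommRingCat.hom_ext (IsLocalization.Away.lift_comp a.1 hua)
      haveI : IsOpenImmersion ic := IsOpenImmersion.of_isLocalization c
      have hrange : Set.range ic = Set.range (pullback.fst (𝒰.f a) (𝒰.f b) ≫ 𝒰.f a) := by
        rw [IsOpenImmersion.range_pullback_to_base_of_left]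
        show _ = Set.range (Spec.map _) ∩ Set.range (Spec.map _)
        exact (PrimeSpectrum.localization_away_comap_range (Localization.Away c) c).trans (by
          rw [PrimeSpectrum.basicOpen_mul]
          exact congrArg₂ (· ∩ ·) (PrimeSpectrum.localization_away_comap_range (Localization.Away a.1) a.1).symm
            (PrimeSpectrum.localization_away_comap_range (Localization.Away b.1) b.1).symm)
      have : l = (IsOpenImmersion.isoOfRangeEq ic _ hrange).hom := by
        rw [← cancel_mono (pullback.fst (𝒰.f a) (𝒰.f b) ≫ 𝒰.f a), hl, IsOpenImmersion.isoOfRangeEq_hom_fac]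
      rw [this]; infer_instance
    rw [← cancel_epi l, pullback.lift_fst_assoc, pullback.lift_snd_assoc]
    refine Groth.LieSBasic.hom_eq_of_injective (Localization.awayMap φ c)
      (fun x y e => Groth.LieSBasic.awayMap_jointly_injective φ φ (fun z hz _ => hinj (hz.trans (map_zero φ).symm)) c e e)
      (surjective_comap_awayMap φ hinj hlift c) _ _ ?_
    have key : ∀ (j : J) (l : Localization.Away j.1 →+* Localization.Away c),
        l.comp (algebraMap R _) = algebraMap R _ →
        Spec.map (CommRingCat.ofHom (Localization.awayMap φ c)) ≫ Spec.map (CommRingCat.ofHom l) ≫ g j =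
          Spec.map (CommRingCat.ofHom (algebraMap R' (Localization.Away (φ c)))) ≫ Φ := by
      intro j l hl
      have hu : IsUnit (algebraMap R' (Localization.Away (φ c)) (φ j.1)) := by
        have := (show IsUnit (l (algebraMap R _ j.1)) from (IsLocalization.Away.algebraMap_isUnit j.1).map l).map
          (Localization.awayMap φ c)
        rw [show l (algebraMap R _ j.1) = algebraMap R _ j.1 from RingHom.congr_fun hl _] at this
        rwa [show Localization.awayMap φ c (algebraMap R _ j.1) = algebraMap R' _ (φ j.1) from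
          RingHom.congr_fun (Groth.LieSBasic.away_sq φ c) _] at this
      let l' : Localization.Away (φ j.1) →+* Localization.Away (φ c) := IsLocalization.Away.lift (φ j.1) hu
      have hl' : l'.comp (Localization.awayMap φ j.1) = (Localization.awayMap φ c).comp l := by
        refine IsLocalization.ringHom_ext (Submonoid.powers j.1) ?_
        rw [RingHom.comp_assoc, RingHom.comp_assoc, hl, Groth.LieSBasic.away_sq, Groth.LieSBasic.away_sq,
          ← RingHom.comp_assoc, IsLocalization.Away.lift_comp]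
      rw [← Spec.map_comp_assoc, ← CommRingCat.ofHom_comp, ← hl', CommRingCat.ofHom_comp, Spec.map_comp,
        Category.assoc, hg j, ← Spec.map_comp_assoc, ← CommRingCat.ofHom_comp, IsLocalization.Away.lift_comp]
    exact (key a la (IsLocalization.Away.lift_comp a.1 hua)).trans (key b lb (IsLocalization.Away.lift_comp b.1 hub)).symm
  refine ⟨𝒰.glueMorphisms g hcompat, ?_⟩
  have hspan' : Ideal.span (Set.range fun j : J => φ j.1) = ⊤ := by
    rw [show (Set.range fun j : J => φ j.1) = φ '' Set.range (Subtype.val : J → R) from Set.range_comp φ _,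
      ← Ideal.map_span, hspan, Ideal.map_top]
  refine ((Scheme.affineOpenCoverOfSpanRangeEqTop (R := CommRingCat.of R') (fun j : J => φ j.1) hspan').openCover).hom_ext
    _ _ fun j => ?_
  show Spec.map _ ≫ Spec.map _ ≫ _ = Spec.map _ ≫ Φ
  rw [← Category.assoc, ← Groth.LieSBasic.spec_away_sq, Category.assoc]
  rw [show Spec.map (CommRingCat.ofHom (algebraMap R (Localization.Away j.1))) ≫ 𝒰.glueMorphisms g hcompat = g j from
    𝒰.ι_glueMorphisms g hcompat j]
  exact hg j

end Misc3Lie
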