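import Mathlib
import Groth.Agent.LieSBasic.MulEpi

/-!
# Evaluation of dual-number points at elements of square zero
-/

universe u

open CategoryTheory AlgebraicGeometry MonObj

set_option backward.isDefEq.respectTransparency false

namespace Misc3Lie

open TrivSqZeroExt

variable {S : Scheme.{u}} {B : Type u} [CommRing B] (f : Spec (CommRingCat.of B) ⟶ S)
  {C : Type u} [CommRing C] {k : Spec (CommRingCat.of C) ⟶ S}

/-- `ε ↦ u` -/
noncomputable def evMap (h : B →+* C) (e : Spec.map (CommRingCat.ofHom h) ≫ f = k) (u : C) (hu : u * u = 0) :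
    Over.mk k ⟶ LieS.dpt B f :=
  Over.homMk (Spec.map (CommRingCat.ofHom (LieS.dualHom h u hu))) (by
    change Spec.map _ ≫ Spec.map _ ≫ f = k
    rw [← Category.assoc, LieS.specMap_comp, LieS.dualHom_comp_algebraMap, e])

/-- `a + v₁ ε₁ + v₂ ε₂ ↦ h a + h v₁ u + h v₂ t` -/
noncomputable def e2Hom (h : B →+* C) (u t : C) (huu : u * u = 0) (htt : t * t = 0) (hut : u * t = 0) :
    Groth.LieSBasic.E2 B →+* C where
  toFun x := h x.fst + h x.snd.1 * u + h x.snd.2 * t
  map_one' := by simp
  map_zero' := by simp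
  map_add' x y := by simp [add_mul]; ring
  map_mul' x y := by
    simp only [TrivSqZeroExt.fst_mul, TrivSqZeroExt.snd_mul, Prod.fst_add, Prod.snd_add, Prod.smul_fst, Prod.smul_snd,
      smul_eq_mul, MulOpposite.smul_eq_mul_unop, MulOpposite.unop_op, map_add, map_mul]
    linear_combination (-(h x.snd.1 * h y.snd.1)) * huu - (h x.snd.2 * h y.snd.2) * htt -
      (h x.snd.1 * h y.snd.2 + h x.snd.2 * h y.snd.1) * hut

/-- `ε₁ ↦ u`, `ε₂ ↦ t` -/
noncomputable def e2Map (h : B →+* C) (e : Spec.map (CommRingCat.ofHom h) ≫ f = k) (u t : C) (huu : u * u = 0)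
    (htt : t * t = 0) (hut : u * t = 0) : Over.mk k ⟶ Groth.LieSBasic.ept B f :=
  Over.homMk (Spec.map (CommRingCat.ofHom (e2Hom h u t huu htt hut))) (by
    change Spec.map _ ≫ Spec.map _ ≫ f = k
    rw [← Category.assoc, LieS.specMap_comp,
      show (e2Hom h u t huu htt hut).comp (algebraMap B (Groth.LieSBasic.E2 B)) = h from
        RingHom.ext fun b => by simp [e2Hom, algebraMap_eq_inl'], e])

variable (h : B →+* C) (e : Spec.map (CommRingCat.ofHom h) ≫ f = k)

theorem evMap_congr {u u' : C} (hu : u * u = 0) (hu' : u' * u' = 0) (he : u = u') :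
    evMap f h e u hu = evMap f h e u' hu' := by
  subst he; rfl

theorem e2Map_inMap (u t : C) (huu : u * u = 0) (htt : t * t = 0) (hut : u * t = 0) (v : B × B) (w : C)
    (hw : w * w = 0) (he : h v.1 * u + h v.2 * t = w) :
    e2Map f h e u t huu htt hut ≫ Groth.LieSBasic.inMap f v = evMap f h e w hw := by
  apply Over.OverMorphism.ext
  change Spec.map _ ≫ Spec.map _ = Spec.map _
  rw [LieS.specMap_comp]
  refine congrArg (fun k => Spec.map (CommRingCat.ofHom k)) (RingHom.ext fun x => ?_)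
  simp [e2Hom, ← he, algebraMap_eq_inl']
  ring

theorem evMap_scale (b : B) (u : C) (hu : u * u = 0) (hbu : h b * u * (h b * u) = 0) :
    evMap f h e u hu ≫ LieS.scale B f b = evMap f h e (h b * u) hbu := by
  apply Over.OverMorphism.ext
  change Spec.map _ ≫ Spec.map _ = Spec.map _
  rw [LieS.specMap_comp]
  refine congrArg (fun k => Spec.map (CommRingCat.ofHom k)) (RingHom.ext fun x => ?_)
  simp [LieS.scaleHom, algebraMap_eq_inl']
  ring

variable {X : Over S} [MonObj X]

theorem comp_mul' {Y Z : Over S} (g : Y ⟶ Z) (a b : Z ⟶ X) : g ≫ (a * b) = (g ≫ a) * (g ≫ b) :=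
  ((yonedaMonObj X).map g.op).hom.map_mul a b

theorem evMap_zero_comp {v : LieS.dpt B f ⟶ X} (hv : LieS.zeroSec B f ≫ v = 1) :
    evMap f h e (0 : C) (zero_mul 0) ≫ v = 1 := by
  have : evMap f h e (0 : C) (zero_mul 0) =
      (Over.homMk (Spec.map (CommRingCat.ofHom h)) e : Over.mk k ⟶ LieS.pt B f) ≫ LieS.zeroSec B f := by
    apply Over.OverMorphism.ext
    change Spec.map _ = Spec.map _ ≫ Spec.map _
    rw [LieS.specMap_comp]
    exact congrArg (fun k => Spec.map (CommRingCat.ofHom k)) (RingHom.ext fun x => by simp)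
  rw [this, Category.assoc, hv, MonObj.comp_one]

/-- Two points over `Spec B[ε₁, ε₂]` agree if they agree on both axes. -/
theorem ept_ext {Z : Over S} {a b : Groth.LieSBasic.ept B f ⟶ Z}
    (h₁ : Groth.LieSBasic.outMap f 1 0 ≫ a = Groth.LieSBasic.outMap f 1 0 ≫ b)
    (h₂ : Groth.LieSBasic.outMap f 0 1 ≫ a = Groth.LieSBasic.outMap f 0 1 ≫ b) : a = b := by
  apply Over.OverMorphism.ext
  refine Groth.LieSBasic.hom_eq_of_jointly_injective (R := Groth.LieSBasic.E2 B) _ _ (fun x h1 h2 => ?_) ?_ _ _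
    (congrArg (fun k => k.left) h₁) (congrArg (fun k => k.left) h₂)
  · refine TrivSqZeroExt.ext ?_ (Prod.ext ?_ ?_)
    · simpa using congrArg fst h1
    · simpa using congrArg snd h1
    · simpa using congrArg snd h2
  · intro p
    obtain ⟨q, rfl⟩ := Groth.LieSBasic.surjective_comap_of_section (fstHom B B (B × B)).toRingHom
      (algebraMap B (Groth.LieSBasic.E2 B)) (fun r => ⟨2, by
        refine TrivSqZeroExt.ext ?_ ?_ <;> simp [pow_two, algebraMap_eq_inl']⟩) p
    refine ⟨PrimeSpectrum.comap (fstHom B B B).toRingHom q, ?_⟩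
    rw [← PrimeSpectrum.comap_comp_apply]
    congr 1
    ext x
    simp

theorem scale_zero_comp' {v : LieS.dpt B f ⟶ X} (hv : LieS.zeroSec B f ≫ v = 1) :
    LieS.scale B f 0 ≫ v = 1 := by
  rw [Groth.LieSBasic.scale_zero, Category.assoc, hv, MonObj.comp_one]

theorem inMap_mul {v : LieS.dpt B f ⟶ X} (hv : LieS.zeroSec B f ≫ v = 1) :
    (Groth.LieSBasic.inMap f (1, 0) ≫ v) * (Groth.LieSBasic.inMap f (0, 1) ≫ v) =
      Groth.LieSBasic.inMap f (1, 1) ≫ v := by
  refine ept_ext f ?_ ?_ <;>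
    simp only [comp_mul', ← Category.assoc, Groth.LieSBasic.outMap_inMap, mul_zero, _root_.mul_one, add_zero, zero_add,
      scale_zero_comp' f hv, Groth.LieSBasic.scale_one, Category.id_comp, _root_.mul_one, _root_.one_mul]

theorem inMap_comm {v w : LieS.dpt B f ⟶ X} (hv : LieS.zeroSec B f ≫ v = 1) (hw : LieS.zeroSec B f ≫ w = 1) :
    (Groth.LieSBasic.inMap f (1, 0) ≫ v) * (Groth.LieSBasic.inMap f (0, 1) ≫ w) =
      (Groth.LieSBasic.inMap f (0, 1) ≫ w) * (Groth.LieSBasic.inMap f (1, 0) ≫ v) := by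
  refine ept_ext f ?_ ?_ <;>
    simp only [comp_mul', ← Category.assoc, Groth.LieSBasic.outMap_inMap, mul_zero, _root_.mul_one, add_zero, zero_add,
      scale_zero_comp' f hv, scale_zero_comp' f hw, Groth.LieSBasic.scale_one, Category.id_comp,
      _root_.mul_one, _root_.one_mul]

/-- Evaluation is additive on orthogonal elements of square zero. -/
theorem evMap_add {v : LieS.dpt B f ⟶ X} (hv : LieS.zeroSec B f ≫ v = 1) (u t w : C) (huu : u * u = 0)
    (htt : t * t = 0) (hut : u * t = 0) (hww : w * w = 0) (he : u + t = w) :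
    (evMap f h e u huu ≫ v) * (evMap f h e t htt ≫ v) = evMap f h e w hww ≫ v := by
  have := congrArg (e2Map f h e u t huu htt hut ≫ ·) (inMap_mul f hv)
  simp only [comp_mul', ← Category.assoc] at this
  rwa [e2Map_inMap f h e u t huu htt hut (1, 0) u huu (by simp), e2Map_inMap f h e u t huu htt hut (0, 1) t htt (by simp),
    e2Map_inMap f h e u t huu htt hut (1, 1) w hww (by simpa using he)] at this

/-- Evaluations at orthogonal elements commute. -/
theorem evMap_comm {v w : LieS.dpt B f ⟶ X} (hv : LieS.zeroSec B f ≫ v = 1) (hw : LieS.zeroSec B f ≫ w = 1)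
    (u t : C) (huu : u * u = 0) (htt : t * t = 0) (hut : u * t = 0) :
    (evMap f h e u huu ≫ v) * (evMap f h e t htt ≫ w) = (evMap f h e t htt ≫ w) * (evMap f h e u huu ≫ v) := by
  have := congrArg (e2Map f h e u t huu htt hut ≫ ·) (inMap_comm f hv hw)
  simp only [comp_mul', ← Category.assoc] at this
  rwa [e2Map_inMap f h e u t huu htt hut (1, 0) u huu (by simp),
    e2Map_inMap f h e u t huu htt hut (0, 1) t htt (by simp)] at this

/-- Dual-number points of a monoid that restrict to the unit commute. -/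
theorem mul_comm_of_restrict {v w : LieS.dpt B f ⟶ X} (hv : LieS.zeroSec B f ≫ v = 1)
    (hw : LieS.zeroSec B f ≫ w = 1) : v * w = w * v := by
  have := congrArg (Groth.LieSBasic.outMap f 1 1 ≫ ·) (inMap_comm f hv hw)
  simpa only [comp_mul', ← Category.assoc, Groth.LieSBasic.outMap_inMap, mul_zero, _root_.mul_one, add_zero, zero_add,
    Groth.LieSBasic.scale_one, Category.id_comp] using this

theorem scale_mul_scale {v : LieS.dpt B f ⟶ X} (hv : LieS.zeroSec B f ≫ v = 1) (a b : B) :
    (LieS.scale B f a ≫ v) * (LieS.scale B f b ≫ v) = LieS.scale B f (a + b) ≫ v := by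
  have := congrArg (Groth.LieSBasic.outMap f a b ≫ ·) (inMap_mul f hv)
  simpa only [comp_mul', ← Category.assoc, Groth.LieSBasic.outMap_inMap, mul_zero, _root_.mul_one, add_zero, zero_add]
    using this

theorem isUnit_of_restrict {v : LieS.dpt B f ⟶ X} (hv : LieS.zeroSec B f ≫ v = 1) : IsUnit v := by
  have h1 : v * (LieS.scale B f (-1) ≫ v) = 1 := by
    have := scale_mul_scale f hv 1 (-1)
    rwa [Groth.LieSBasic.scale_one, Category.id_comp, add_neg_cancel, scale_zero_comp' f hv] at this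
  have hv' : LieS.zeroSec B f ≫ LieS.scale B f (-1) ≫ v = 1 := by
    rw [← Category.assoc, LieS.zeroSec_scale, hv]
  exact ⟨⟨v, _, h1, (mul_comm_of_restrict f hv' hv).trans h1⟩, rfl⟩

end Misc3Lie
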