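import Mathlib
import Groth.Agent.Misc3Lie.Ev
import Groth.Agent.Misc3Lie.Descend

/-!
# The bracket on `LieS.Lie`: existence, bilinearity, alternation, Jacobi
-/

universe u

open CategoryTheory AlgebraicGeometry
open scoped MonObj

set_option maxSynthPendingDepth 6

namespace Misc3Lie

open TrivSqZeroExt

variable {B : Type u} [CommRing B]

/-- `ε` (the inner coordinate) -/
abbrev e1 (B : Type u) [CommRing B] : LieS.D2 B := algebraMap (DualNumber B) (LieS.D2 B) DualNumber.eps

/-- `ε'` (the outer coordinate) -/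
abbrev e2 (B : Type u) [CommRing B] : LieS.D2 B := DualNumber.eps

theorem e1_sq : e1 B * e1 B = 0 := by rw [e1, ← map_mul, LieS.eps_sq, map_zero]

theorem e2_sq : e2 B * e2 B = 0 := LieS.eps_sq _

/-- forget `ε'` -/
noncomputable abbrev p0 (B : Type u) [CommRing B] : LieS.D2 B →+* DualNumber B :=
  (fstHom (DualNumber B) (DualNumber B) (DualNumber B)).toRingHom

/-- forget `ε`, rename `ε'` to `ε` -/
noncomputable abbrev p1 (B : Type u) [CommRing B] : LieS.D2 B →+* DualNumber B :=
  LieS.bcHom (fstHom B B B).toRingHom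

/-- forget both -/
noncomputable abbrev p00 (B : Type u) [CommRing B] : LieS.D2 B →+* B := (fstHom B B B).toRingHom.comp (p0 B)

theorem isNilpotent_of_p00 (x : LieS.D2 B) (hx : x.fst.fst = 0) : IsNilpotent x := by
  refine ⟨3, TrivSqZeroExt.ext (TrivSqZeroExt.ext ?_ ?_) (TrivSqZeroExt.ext ?_ ?_)⟩ <;>
    simp [pow_succ, hx]

variable {S : Scheme.{u}} (G : Over S) [GrpObj G] (f : Spec (CommRingCat.of B) ⟶ S)
  {C : Type u} [CommRing C] {k : Spec (CommRingCat.of C) ⟶ S}
  (h : B →+* C) (e : Spec.map (CommRingCat.ofHom h) ≫ f = k)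

/-- The value of a Lie element at `ε ↦ u`. -/
noncomputable def E (u : C) (hu : u * u = 0) (x : LieS.Lie G B f) : Over.mk k ⟶ G := evMap f h e u hu ≫ x.1

theorem E_mul (u : C) (hu : u * u = 0) (x y : LieS.Lie G B f) :
    E G f h e u hu (x * y) = E G f h e u hu x * E G f h e u hu y := comp_mul' _ _ _

theorem E_one (u : C) (hu : u * u = 0) : E G f h e u hu 1 = 1 := MonObj.comp_one _

theorem E_inv (u : C) (hu : u * u = 0) (x : LieS.Lie G B f) :
    E G f h e u hu x⁻¹ = (E G f h e u hu x)⁻¹ := by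
  refine eq_inv_of_mul_eq_one_left ?_
  rw [← E_mul, inv_mul_cancel, E_one]

theorem E_zero (x : LieS.Lie G B f) : E G f h e 0 (zero_mul 0) x = 1 :=
  evMap_zero_comp f h e ((LieS.mem_Lie_iff G B f x.1).1 x.2)

theorem E_congr {u u' : C} (hu : u * u = 0) (hu' : u' * u' = 0) (he : u = u') (x : LieS.Lie G B f) :
    E G f h e u hu x = E G f h e u' hu' x := by subst he; rfl

theorem E_of_eq_zero {u : C} (hu : u * u = 0) (he : u = 0) (x : LieS.Lie G B f) : E G f h e u hu x = 1 :=
  (E_congr G f h e hu (zero_mul 0) he x).trans (E_zero G f h e x)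

theorem E_smul (b : B) (u : C) (hu : u * u = 0) (hbu : h b * u * (h b * u) = 0) (x : LieS.Lie G B f) :
    E G f h e u hu (b • x) = E G f h e (h b * u) hbu x := by
  rw [E, E, LieS.smul_val, ← Category.assoc, evMap_scale f h e b u hu hbu]

theorem E_comm (u t : C) (huu : u * u = 0) (htt : t * t = 0) (hut : u * t = 0) (x y : LieS.Lie G B f) :
    E G f h e u huu x * E G f h e t htt y = E G f h e t htt y * E G f h e u huu x :=
  evMap_comm f h e ((LieS.mem_Lie_iff G B f x.1).1 x.2) ((LieS.mem_Lie_iff G B f y.1).1 y.2) u t huu htt hut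

theorem E_conj (u t : C) (huu : u * u = 0) (htt : t * t = 0) (hut : u * t = 0) (x y : LieS.Lie G B f) :
    E G f h e u huu x * E G f h e t htt y * (E G f h e u huu x)⁻¹ = E G f h e t htt y := by
  rw [E_comm G f h e u t huu htt hut, mul_inv_cancel_right]

/-- Base change of evaluations. -/
theorem comp_E {C' : Type u} [CommRing C'] {k' : Spec (CommRingCat.of C') ⟶ S} (g : C →+* C')
    (hg : Spec.map (CommRingCat.ofHom g) ≫ k = k') (h' : B →+* C')
    (e' : Spec.map (CommRingCat.ofHom h') ≫ f = k') (hgh : g.comp h = h') (u : C) (hu : u * u = 0) (u' : C')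
    (hu' : u' * u' = 0) (he : g u = u') (x : LieS.Lie G B f) :
    (Over.homMk (Spec.map (CommRingCat.ofHom g)) hg : Over.mk k' ⟶ Over.mk k) ≫ E G f h e u hu x =
      E G f h' e' u' hu' x := by
  rw [E, E, ← Category.assoc]
  congr 1
  apply Over.OverMorphism.ext
  change Spec.map _ ≫ Spec.map _ = Spec.map _
  rw [LieS.specMap_comp]
  refine congrArg (fun k => Spec.map (CommRingCat.ofHom k)) (RingHom.ext fun z => ?_)
  simp [← he, ← hgh]

theorem smul_comm_smul (a b : B) (x : LieS.Lie G B f) : a • b • x = ((a * b) • x : LieS.Lie G B f) := by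
  apply Subtype.ext
  simp only [LieS.smul_val, ← Category.assoc]
  congr 1
  apply Over.OverMorphism.ext
  change Spec.map _ ≫ Spec.map _ = Spec.map _
  rw [LieS.specMap_comp]
  refine congrArg (fun k => Spec.map (CommRingCat.ofHom k)) (RingHom.ext fun z => ?_)
  refine TrivSqZeroExt.ext ?_ ?_ <;> simp [LieS.scaleHom, algebraMap_eq_inl'] <;> ring

/-- The commutator. -/
def cm {M : Type*} [Group M] (a b : M) : M := a * b * a⁻¹ * b⁻¹

theorem cm_mul_left {M : Type*} [Group M] (a b c : M) : cm (a * b) c = a * cm b c * a⁻¹ * cm a c := by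
  simp only [cm]; group

theorem cm_mul_right {M : Type*} [Group M] (a b c : M) : cm a (b * c) = cm a b * (b * cm a c * b⁻¹) := by
  simp only [cm]; group

theorem cm_swap {M : Type*} [Group M] (a b : M) : cm b a = (cm a b)⁻¹ := by
  simp only [cm]; group

theorem cm_of_comm {M : Type*} [Group M] {a b : M} (hab : a * b = b * a) : cm a b = 1 := by
  rw [cm, hab, mul_inv_cancel_right, mul_inv_cancel]

theorem cm_conj {M : Type*} [Group M] (g a b : M) :
    cm (g * a * g⁻¹) (g * b * g⁻¹) = g * cm a b * g⁻¹ := by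
  simp only [cm]; group

/-- The structure map of `I_T ×_T I_T`. -/
noncomputable def k2 : Spec (CommRingCat.of (LieS.D2 B)) ⟶ S := Spec.map (CommRingCat.ofHom (LieS.toD2 B)) ≫ f

/-- The structure map of `I_T`. -/
noncomputable def k1 : Spec (CommRingCat.of (DualNumber B)) ⟶ S :=
  Spec.map (CommRingCat.ofHom (algebraMap B (DualNumber B))) ≫ f

theorem he1 : Spec.map (CommRingCat.ofHom (algebraMap B (DualNumber B))) ≫ f = k1 f := rfl

theorem he2 : Spec.map (CommRingCat.ofHom (LieS.toD2 B)) ≫ f = k2 f := rfl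

theorem k2_eq : k2 f = (LieS.d2pt B f).hom := by
  unfold k2
  rw [← LieS.specMap_comp, Category.assoc]
  rfl

/-- The commutator of `x` read in `ε'` with `y` read in `ε`. -/
noncomputable def cmD2 (x y : LieS.Lie G B f) : Over.mk (k2 f) ⟶ G :=
  cm (E G f (LieS.toD2 B) (he2 f) (e2 B) e2_sq x) (E G f (LieS.toD2 B) (he2 f) (e1 B) e1_sq y)

theorem comp_cmD2 {C' : Type u} [CommRing C'] {k' : Spec (CommRingCat.of C') ⟶ S} (g : LieS.D2 B →+* C')
    (hg : Spec.map (CommRingCat.ofHom g) ≫ k2 f = k') (h' : B →+* C')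
    (e' : Spec.map (CommRingCat.ofHom h') ≫ f = k') (hgh : g.comp (LieS.toD2 B) = h') (u t : C')
    (hu : u * u = 0) (ht : t * t = 0) (heu : g (e2 B) = u) (het : g (e1 B) = t) (x y : LieS.Lie G B f) :
    (Over.homMk (Spec.map (CommRingCat.ofHom g)) hg : Over.mk k' ⟶ Over.mk (k2 f)) ≫ cmD2 G f x y =
      cm (E G f h' e' u hu x) (E G f h' e' t ht y) := by
  simp only [cmD2, cm, comp_mul', GrpObj.comp_inv,
    comp_E G f (LieS.toD2 B) (he2 f) g hg h' e' hgh (e2 B) e2_sq u hu heu,
    comp_E G f (LieS.toD2 B) (he2 f) g hg h' e' hgh (e1 B) e1_sq t ht het]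

/-- `ε ↦ ε ε'` out of `Over.mk (k2 f)`. -/
noncomputable def mulMap2 : Over.mk (k2 f) ⟶ LieS.dpt B f :=
  Over.homMk (Spec.map (CommRingCat.ofHom (LieS.mulHom B))) (by
    change Spec.map _ ≫ Spec.map _ ≫ f = Spec.map (CommRingCat.ofHom (LieS.toD2 B)) ≫ f
    rw [← Category.assoc, LieS.specMap_comp, LieS.mulHom_comp_algebraMap])

theorem exists_br (x y : LieS.Lie G B f) :
    ∃ z : LieS.Lie G B f, mulMap2 f ≫ z.1 = cmD2 G f x y := by
  let q : LieS.D2 B →+* DualNumber B := (algebraMap B (DualNumber B)).comp (p00 B)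
  have side : ∀ g : LieS.D2 B →+* DualNumber B, g.comp (LieS.toD2 B) = algebraMap B (DualNumber B) →
      (g (e2 B) = 0 ∨ g (e1 B) = 0) →
      Spec.map (CommRingCat.ofHom g) ≫ (cmD2 G f x y).left = (1 : Over.mk (k1 f) ⟶ G).left := by
    intro g hgh h0
    have hg : Spec.map (CommRingCat.ofHom g) ≫ k2 f = (k1 f) := by
      rw [← he2 f, ← Category.assoc, LieS.specMap_comp, hgh]; rfl
    have := comp_cmD2 G f g hg (algebraMap B (DualNumber B)) (he1 f) hgh (g (e2 B)) (g (e1 B))
      (by rw [← map_mul, e2_sq, map_zero]) (by rw [← map_mul, e1_sq, map_zero]) rfl rfl x y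
    refine congrArg (fun k => k.left) (this.trans ?_)
    rcases h0 with h0 | h0 <;> refine cm_of_comm ?_
    · rw [E_of_eq_zero G f _ (he1 f) _ h0, one_mul, mul_one]
    · rw [E_of_eq_zero G f _ (he1 f) (u := g (e1 B)) _ h0, one_mul, mul_one]
  have hq0 : q (e1 B) = 0 := by simp [q, e1, algebraMap_eq_inl']
  have hqB : q.comp (LieS.toD2 B) = algebraMap B (DualNumber B) :=
    RingHom.ext fun b => by simp [q, LieS.toD2, algebraMap_eq_inl']
  have h₀B : (p0 B).comp (LieS.toD2 B) = algebraMap B (DualNumber B) :=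
    RingHom.ext fun b => by simp [LieS.toD2, algebraMap_eq_inl']
  have h₁B : (p1 B).comp (LieS.toD2 B) = algebraMap B (DualNumber B) :=
    RingHom.ext fun b => by simp [LieS.toD2, LieS.bcHom, algebraMap_eq_inl']
  obtain ⟨Ψ, hΨ⟩ := exists_descend (LieS.mulHom B) (Groth.LieSBasic.mulHom_injective B)
    (fun z => ⟨algebraMap B (DualNumber B) z.fst.fst, isNilpotent_of_p00 _ (by
      simp [Groth.LieSBasic.mulHom_eq, algebraMap_eq_inl'])⟩)
    ![p0 B, p1 B] ![q, q]
    (fun i => by
      refine RingHom.ext fun z => ?_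
      fin_cases i <;> refine TrivSqZeroExt.ext ?_ ?_ <;>
        simp [q, LieS.bcHom, Groth.LieSBasic.mulHom_eq, algebraMap_eq_inl'])
    (fun z hz => ⟨inl z.fst.fst + inr z.snd.snd, by
      have hb : z.fst.snd = 0 := by simpa [q, algebraMap_eq_inl'] using congrArg snd (hz 0)
      have hc : z.snd.fst = 0 := by simpa [q, LieS.bcHom, algebraMap_eq_inl'] using congrArg snd (hz 1)
      rw [Groth.LieSBasic.mulHom_eq]
      refine TrivSqZeroExt.ext (TrivSqZeroExt.ext ?_ ?_) (TrivSqZeroExt.ext ?_ ?_) <;> simp [hb, hc]⟩)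
    (cmD2 G f x y).left
    (fun i => by
      fin_cases i
      · exact (side _ h₀B (Or.inl (by simp [e2]))).trans (side q hqB (Or.inr hq0)).symm
      · exact (side _ h₁B (Or.inr (by simp [e1, LieS.bcHom, algebraMap_eq_inl']))).trans (side q hqB (Or.inr hq0)).symm)
  have hΨS : Ψ ≫ G.hom = (LieS.dpt B f).hom := by
    refine Groth.LieSBasic.hom_eq_of_injective (LieS.mulHom B) (Groth.LieSBasic.mulHom_injective B)
      (Groth.LieSBasic.surjective_comap_mulHom B) _ _ ?_
    rw [← Category.assoc, hΨ, Over.w (cmD2 G f x y)]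
    exact (Over.w (mulMap2 f)).symm
  let z : LieS.dpt B f ⟶ G := Over.homMk Ψ hΨS
  refine ⟨⟨z, (LieS.mem_Lie_iff G B f z).2 ?_⟩, Over.OverMorphism.ext hΨ⟩
  have hg : Spec.map (CommRingCat.ofHom (p00 B)) ≫ k2 f = f := by
    rw [← he2 f, ← Category.assoc, LieS.specMap_comp,
      show (p00 B).comp (LieS.toD2 B) = RingHom.id B from RingHom.ext fun b => by simp [LieS.toD2, algebraMap_eq_inl']]
    rw [CommRingCat.ofHom_id]; erw [Spec.map_id]; exact Category.id_comp f
  have h1 := comp_cmD2 G f (p00 B) hg (RingHom.id B)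
    (by rw [CommRingCat.ofHom_id]; erw [Spec.map_id]; exact Category.id_comp f)
    (RingHom.ext fun b => by simp [LieS.toD2, algebraMap_eq_inl']) 0 0 (zero_mul 0) (zero_mul 0)
    (by simp [e2]) (by simp [e1, algebraMap_eq_inl']) x y
  rw [E_zero, E_zero, cm_of_comm rfl] at h1
  apply Over.OverMorphism.ext
  change Spec.map _ ≫ Ψ = _
  rw [show (fstHom B B B).toRingHom = (p00 B).comp (LieS.mulHom B) from
    RingHom.ext fun w => by simp [Groth.LieSBasic.mulHom_eq], ← LieS.specMap_comp, Category.assoc, hΨ]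
  exact congrArg (fun k => k.left) h1

/-- The bracket. -/
noncomputable def br (x y : LieS.Lie G B f) : LieS.Lie G B f := (exists_br G f x y).choose

theorem br_spec (x y : LieS.Lie G B f) : mulMap2 f ≫ (br G f x y).1 = cmD2 G f x y :=
  (exists_br G f x y).choose_spec

theorem isBracket_br (x y : LieS.Lie G B f) : LieS.IsBracket G B f x y (br G f x y) := by
  let c : LieS.d2pt B f ⟶ Over.mk (k2 f) := Over.homMk (𝟙 (Spec (CommRingCat.of (LieS.D2 B))))
    ((Category.id_comp (k2 f)).trans (k2_eq f))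
  have hm : c ≫ mulMap2 f = LieS.mulMap B f := by
    apply Over.OverMorphism.ext
    exact Category.id_comp _
  have hx : c ≫ E G f (LieS.toD2 B) (he2 f) (e2 B) e2_sq x =
      LieS.dptMap f (algebraMap B (DualNumber B)) ≫ x.1 := by
    rw [E, ← Category.assoc]
    congr 1
  have hy : c ≫ E G f (LieS.toD2 B) (he2 f) (e1 B) e1_sq y =
      LieS.proj (DualNumber B) (LieS.dpt B f).hom ≫ y.1 := by
    rw [E, ← Category.assoc]
    congr 1
    apply Over.OverMorphism.ext
    refine (Category.id_comp _).trans ?_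
    change Spec.map _ = Spec.map _
    refine congrArg (fun k => Spec.map (CommRingCat.ofHom k)) (RingHom.ext fun z => ?_)
    refine TrivSqZeroExt.ext (TrivSqZeroExt.ext ?_ ?_) (TrivSqZeroExt.ext ?_ ?_) <;>
      simp [LieS.toD2, e1, algebraMap_eq_inl']
  unfold LieS.IsBracket
  rw [← hm, Category.assoc, br_spec, cmD2, cm]
  simp only [comp_mul', GrpObj.comp_inv, hx, hy]
  rfl

theorem sq_mul (u t : C) (hu : u * u = 0) : t * u * (t * u) = 0 := by
  linear_combination (t * t) * hu

theorem cm_E (u t : C) (hu : u * u = 0) (ht : t * t = 0) (x y : LieS.Lie G B f) :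
    cm (E G f h e u hu x) (E G f h e t ht y) = E G f h e (t * u) (sq_mul u t hu) (br G f x y) := by
  let g : LieS.D2 B →+* C := LieS.dualHom (LieS.dualHom h t ht) u hu
  have hgh : g.comp (LieS.toD2 B) = h := RingHom.ext fun b => by simp [g, LieS.toD2, algebraMap_eq_inl']
  have hg : Spec.map (CommRingCat.ofHom g) ≫ k2 f = k := by
    rw [← he2 f, ← Category.assoc, LieS.specMap_comp, hgh, e]
  rw [← comp_cmD2 G f g hg h e hgh u t hu ht (by simp [g, e2]) (by simp [g, e1, algebraMap_eq_inl']) x y,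
    ← br_spec, ← Category.assoc, E]
  congr 1
  apply Over.OverMorphism.ext
  change Spec.map _ ≫ Spec.map _ = Spec.map _
  rw [LieS.specMap_comp]
  refine congrArg (fun k => Spec.map (CommRingCat.ofHom k)) (RingHom.ext fun z => ?_)
  simp [g, Groth.LieSBasic.mulHom_eq]
  ring

theorem E_top_injective {z w : LieS.Lie G B f} (hu : e1 B * e2 B * (e1 B * e2 B) = 0)
    (hzw : E G f (LieS.toD2 B) (he2 f) (e1 B * e2 B) hu z = E G f (LieS.toD2 B) (he2 f) (e1 B * e2 B) hu w) :
    z = w := by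
  apply Subtype.ext
  apply Over.OverMorphism.ext
  exact Groth.LieSBasic.hom_eq_of_injective (R := DualNumber B) (T := LieS.D2 B) (LieS.mulHom B)
    (Groth.LieSBasic.mulHom_injective B) (Groth.LieSBasic.surjective_comap_mulHom B) _ _
    (congrArg (fun k => k.left) hzw)

theorem mul_comm' (x y : LieS.Lie G B f) : x * y = y * x :=
  Subtype.ext (mul_comm_of_restrict f ((LieS.mem_Lie_iff G B f x.1).1 x.2) ((LieS.mem_Lie_iff G B f y.1).1 y.2))

theorem br_mul_left (x y z : LieS.Lie G B f) : br G f (x * y) z = br G f x z * br G f y z := by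
  rw [mul_comm' G f (br G f x z)]
  have hp : e1 B * e2 B * (e1 B * e2 B) = 0 := sq_mul (C := LieS.D2 B) (e2 B) (e1 B) e2_sq
  refine E_top_injective G f hp ?_
  rw [← cm_E G f _ (he2 f) (e2 B) (e1 B) e2_sq e1_sq, E_mul, cm_mul_left, cm_E, cm_E,
    E_conj G f _ (he2 f) _ _ _ _ (by linear_combination (e1 B) * e2_sq (B := B)), ← E_mul]

theorem br_swap (x y : LieS.Lie G B f) : br G f y x = (br G f x y)⁻¹ := by
  have hp : e1 B * e2 B * (e1 B * e2 B) = 0 := sq_mul (C := LieS.D2 B) (e2 B) (e1 B) e2_sq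
  refine E_top_injective G f hp ?_
  rw [E_congr G f _ (he2 f) hp (sq_mul _ _ e1_sq) (mul_comm (e1 B) (e2 B)),
    ← cm_E G f _ (he2 f) (e1 B) (e2 B) e1_sq e2_sq, cm_swap, cm_E G f _ (he2 f) (e2 B) (e1 B) e2_sq e1_sq, E_inv]

theorem br_mul_right (x y z : LieS.Lie G B f) : br G f x (y * z) = br G f x y * br G f x z := by
  rw [br_swap G f (y * z) x, br_mul_left, mul_inv_rev, ← br_swap, ← br_swap, mul_comm']

theorem br_smul_left (b : B) (x y : LieS.Lie G B f) : br G f (b • x) y = b • br G f x y := by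
  have hp : e1 B * e2 B * (e1 B * e2 B) = 0 := sq_mul (C := LieS.D2 B) (e2 B) (e1 B) e2_sq
  have hb : LieS.toD2 B b * e2 B * (LieS.toD2 B b * e2 B) = 0 := sq_mul (C := LieS.D2 B) (e2 B) (LieS.toD2 B b) e2_sq
  refine E_top_injective G f hp ?_
  rw [← cm_E G f _ (he2 f) (e2 B) (e1 B) e2_sq e1_sq, E_smul G f _ (he2 f) b _ e2_sq hb,
    cm_E G f _ (he2 f) _ (e1 B) hb e1_sq, E_smul G f _ (he2 f) b _ hp (sq_mul _ _ hp)]
  exact E_congr G f _ (he2 f) _ _ (by ring) _

theorem smul_inv' (b : B) (x : LieS.Lie G B f) : b • x⁻¹ = (b • x)⁻¹ := by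
  refine eq_inv_of_mul_eq_one_left (Subtype.ext ?_)
  rw [Subgroup.coe_mul, LieS.smul_val, LieS.smul_val, ← comp_mul', ← Subgroup.coe_mul, inv_mul_cancel]
  exact MonObj.comp_one _

theorem br_smul_right (b : B) (x y : LieS.Lie G B f) : br G f x (b • y) = b • br G f x y := by
  rw [br_swap G f (b • y) x, br_smul_left, ← smul_inv', ← br_swap]

theorem br_self (x : LieS.Lie G B f) : br G f x x = 1 := by
  have hp : e1 B * e2 B * (e1 B * e2 B) = 0 := sq_mul (C := LieS.D2 B) (e2 B) (e1 B) e2_sq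
  refine E_top_injective G f hp ?_
  rw [← cm_E G f _ (he2 f) (e2 B) (e1 B) e2_sq e1_sq, E_one]
  refine cm_of_comm ?_
  let a : Over.mk (k2 f) ⟶ G := E G f (LieS.toD2 B) (he2 f) (e2 B) e2_sq x * E G f (LieS.toD2 B) (he2 f) (e1 B) e1_sq x
  have hp0 : (p0 B).comp (LieS.toD2 B) = algebraMap B (DualNumber B) :=
    RingHom.ext fun b => by simp [LieS.toD2, algebraMap_eq_inl']
  have hp1 : (p1 B).comp (LieS.toD2 B) = algebraMap B (DualNumber B) :=
    RingHom.ext fun b => by simp [LieS.toD2, LieS.bcHom, algebraMap_eq_inl']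
  have hg : ∀ g : LieS.D2 B →+* DualNumber B, g.comp (LieS.toD2 B) = algebraMap B (DualNumber B) →
      Spec.map (CommRingCat.ofHom g) ≫ k2 f = (k1 f) := by
    intro g hgh; rw [← he2 f, ← Category.assoc, LieS.specMap_comp, hgh]; rfl
  let pair := RingHom.eqLocus (p0 B) (p1 B)
  obtain ⟨Ψ, hΨ⟩ := exists_descend pair.subtype Subtype.val_injective
    (fun z => ⟨⟨LieS.toD2 B z.fst.fst, by
      show p0 B _ = p1 B _
      rw [← RingHom.comp_apply, hp0, ← RingHom.comp_apply, hp1]⟩, isNilpotent_of_p00 _ (by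
      simp [LieS.toD2, algebraMap_eq_inl'])⟩)
    (fun _ : Unit => p0 B) (fun _ => p1 B) (fun _ => RingHom.ext fun z => z.2)
    (fun z hz => ⟨⟨z, hz ()⟩, rfl⟩) a.left
    (fun _ => by
      have h0 := congrArg (fun k => k.left) (show
          (Over.homMk (Spec.map (CommRingCat.ofHom (p0 B))) (hg _ hp0) : Over.mk (k1 f) ⟶ Over.mk (k2 f)) ≫ a =
            E G f (algebraMap B (DualNumber B)) (he1 f) DualNumber.eps (LieS.eps_sq B) x by
        rw [comp_mul', comp_E G f _ (he2 f) (p0 B) (hg _ hp0) _ (he1 f) hp0 (e2 B) e2_sq 0 (zero_mul 0) (by simp [e2]),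
          comp_E G f _ (he2 f) (p0 B) (hg _ hp0) _ (he1 f) hp0 (e1 B) e1_sq DualNumber.eps (LieS.eps_sq B) (by simp [e1, algebraMap_eq_inl']),
          E_zero, one_mul])
      have h1 := congrArg (fun k => k.left) (show
          (Over.homMk (Spec.map (CommRingCat.ofHom (p1 B))) (hg _ hp1) : Over.mk (k1 f) ⟶ Over.mk (k2 f)) ≫ a =
            E G f (algebraMap B (DualNumber B)) (he1 f) DualNumber.eps (LieS.eps_sq B) x by
        rw [comp_mul', comp_E G f _ (he2 f) (p1 B) (hg _ hp1) _ (he1 f) hp1 (e1 B) e1_sq 0 (zero_mul 0) (by simp [e1, LieS.bcHom, algebraMap_eq_inl']),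
          comp_E G f _ (he2 f) (p1 B) (hg _ hp1) _ (he1 f) hp1 (e2 B) e2_sq DualNumber.eps (LieS.eps_sq B) (by simp [e2, LieS.bcHom]),
          E_zero, mul_one])
      exact h0.trans h1.symm)
  let σ : LieS.D2 B →+* LieS.D2 B := LieS.dualHom (LieS.dualHom (LieS.toD2 B) (e2 B) e2_sq) (e1 B) e1_sq
  have hσB : σ.comp (LieS.toD2 B) = LieS.toD2 B := RingHom.ext fun b => by simp [σ, LieS.toD2, algebraMap_eq_inl']
  have hσw : σ.comp pair.subtype = pair.subtype := by
    refine RingHom.ext fun z => ?_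
    have hbc : z.1.fst.snd = z.1.snd.fst := by
      simpa [LieS.bcHom, algebraMap_eq_inl'] using congrArg snd (show p0 B z.1 = p1 B z.1 from z.2)
    refine TrivSqZeroExt.ext (TrivSqZeroExt.ext ?_ ?_) (TrivSqZeroExt.ext ?_ ?_) <;>
      simp [σ, LieS.toD2, e1, e2, algebraMap_eq_inl', hbc]
  have hσk : Spec.map (CommRingCat.ofHom σ) ≫ k2 f = k2 f := by
    rw [← he2 f, ← Category.assoc, LieS.specMap_comp, hσB]
  have hsym : (Over.homMk (Spec.map (CommRingCat.ofHom σ)) hσk : Over.mk (k2 f) ⟶ Over.mk (k2 f)) ≫ a = a := by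
    apply Over.OverMorphism.ext
    change Spec.map _ ≫ a.left = a.left
    rw [← hΨ, ← Category.assoc, LieS.specMap_comp, hσw]
  rw [comp_mul', comp_E G f _ (he2 f) σ hσk _ (he2 f) hσB (e2 B) e2_sq (e1 B) e1_sq (by simp [σ, e2]),
    comp_E G f _ (he2 f) σ hσk _ (he2 f) hσB (e1 B) e1_sq (e2 B) e2_sq (by simp [σ, e1, algebraMap_eq_inl'])] at hsym
  exact hsym.symm

theorem br_jacobi_aux (t s v : C) (ht : t * t = 0) (hs : s * s = 0) (hv : v * v = 0)
    (hw : t * s * v * (t * s * v) = 0) (x y z : LieS.Lie G B f) :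
    E G f h e (t * s * v) hw (br G f x (br G f y z)) =
      E G f h e (t * s * v) hw (br G f (br G f x y) z * br G f y (br G f x z)) := by
  have key := cm_conj (E G f h e v hv x) (E G f h e s hs y) (E G f h e t ht z)
  have e₁ : E G f h e v hv x * E G f h e s hs y * (E G f h e v hv x)⁻¹ = E G f h e (s * v) (sq_mul _ _ hv) (br G f x y) * E G f h e s hs y := by
    rw [← cm_E G f h e v s hv hs, cm, inv_mul_cancel_right]
  have e₂ : E G f h e v hv x * E G f h e t ht z * (E G f h e v hv x)⁻¹ = E G f h e (t * v) (sq_mul _ _ hv) (br G f x z) * E G f h e t ht z := by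
    rw [← cm_E G f h e v t hv ht, cm, inv_mul_cancel_right]
  have hts : t * s * (t * s) = 0 := sq_mul _ _ hs
  have e₃ : E G f h e v hv x * cm (E G f h e s hs y) (E G f h e t ht z) * (E G f h e v hv x)⁻¹ =
      E G f h e (t * s * v) hw (br G f x (br G f y z)) * E G f h e (t * s) hts (br G f y z) := by
    rw [cm_E G f h e s t hs ht, ← cm_E G f h e v (t * s) hv hts, cm, inv_mul_cancel_right]
  rw [e₁, e₂, e₃, cm_mul_left, cm_mul_right, cm_mul_right,
    cm_E G f h e (s * v) (t * v), E_of_eq_zero G f h e (u := t * v * (s * v)) _ (by linear_combination (t * s) * hv), one_mul,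
    cm_E G f h e (s * v) t, cm_E G f h e s (t * v), cm_E G f h e s t] at key
  rw [E_congr G f h e _ hw (show t * (s * v) = t * s * v by ring) (br G f (br G f x y) z),
    E_congr G f h e _ hw (show t * v * s = t * s * v by ring) (br G f y (br G f x z)),
    E_conj G f h e (t * v) (t * s * v) _ hw (by linear_combination (t * t * s) * hv),
    E_conj G f h e (t * v) (t * s) _ hts (by linear_combination (v * s) * ht)] at key
  have hc : ∀ p, E G f h e (s * v) (sq_mul _ _ hv) (br G f x y) * (E G f h e (t * s * v) hw p * E G f h e (t * s) hts (br G f y z)) *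
      (E G f h e (s * v) (sq_mul _ _ hv) (br G f x y))⁻¹ = E G f h e (t * s * v) hw p * E G f h e (t * s) hts (br G f y z) := by
    intro p
    rw [← mul_assoc, E_comm G f h e (s * v) (t * s * v) _ hw (by linear_combination (t * s * s) * hv),
      mul_assoc (E G f h e (t * s * v) hw p), E_comm G f h e (s * v) (t * s) _ hts (by linear_combination (v * t) * hs),
      ← mul_assoc, mul_inv_cancel_right]
  rw [hc, mul_assoc, E_comm G f h e (t * s) (t * s * v) hts hw (by linear_combination (t * t * v) * hs),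
    ← mul_assoc] at key
  rw [E_mul, E_comm G f h e _ _ hw hw (by linear_combination (t * t * s * s) * hv)]
  exact (mul_right_cancel key).symm

set_option synthInstance.maxHeartbeats 400000 in
theorem br_jacobi (x y z : LieS.Lie G B f) :
    br G f x (br G f y z) = br G f (br G f x y) z * br G f y (br G f x z) := by
  let α : LieS.D2 B →+* DualNumber (LieS.D2 B) := algebraMap (LieS.D2 B) (DualNumber (LieS.D2 B))
  let h3 : B →+* DualNumber (LieS.D2 B) := α.comp (LieS.toD2 B)
  let k3 := Spec.map (CommRingCat.ofHom h3) ≫ f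
  let v : DualNumber (LieS.D2 B) := DualNumber.eps
  have ht : α (e1 B) * α (e1 B) = 0 := by rw [← map_mul, e1_sq, map_zero]
  have hs : α (e2 B) * α (e2 B) = 0 := by rw [← map_mul, e2_sq, map_zero]
  have hv : v * v = 0 := LieS.eps_sq _
  have hw : α (e1 B) * α (e2 B) * v * (α (e1 B) * α (e2 B) * v) = 0 := sq_mul _ _ hv
  have key := br_jacobi_aux G f h3 (k := k3) rfl (α (e1 B)) (α (e2 B)) v ht hs hv hw x y z
  let g : DualNumber B →+* DualNumber (LieS.D2 B) := LieS.dualHom h3 (α (e1 B) * α (e2 B) * v) hw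
  have hg : g = (LieS.mulHom (DualNumber B)).comp (LieS.mulHom B) := by
    refine RingHom.ext fun r => ?_
    simp [g, h3, α, v, e1, e2, LieS.mulHom, LieS.toD2, algebraMap_eq_inl', mul_assoc]
  apply Subtype.ext
  apply Over.OverMorphism.ext
  have key' := congrArg (fun k => k.left) key
  simp only [E, evMap, Over.comp_left, Over.homMk_left] at key'
  refine Groth.LieSBasic.hom_eq_of_injective (R := DualNumber B) (T := DualNumber (LieS.D2 B)) g ?_ ?_ _ _ key'
  · rw [hg, RingHom.coe_comp]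
    exact (Groth.LieSBasic.mulHom_injective (DualNumber B)).comp (Groth.LieSBasic.mulHom_injective B)
  · rw [hg, PrimeSpectrum.comap_comp]
    exact (Groth.LieSBasic.surjective_comap_mulHom B).comp (Groth.LieSBasic.surjective_comap_mulHom (DualNumber B))

end Misc3Lie
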